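import Groth.Agent.Et18.Fppf.SectionSheaf

/-!
# The inverse image of an étale sheaf on the big fppf site
-/

set_option autoImplicit false
set_option backward.isDefEq.respectTransparency.types false
set_option backward.isDefEq.respectTransparency false

universe u

open CategoryTheory CategoryTheory.Limits AlgebraicGeometry Opposite
open Groth.Agent.Et18.H0Lift

namespace Groth.Agent.Et18.Fppf

variable {X : Scheme.{u}}

theorem mem_J_of_etale {W : Over X} {κ : Type (u + 1)} (R : κ → Over X) (a : ∀ k, R k ⟶ W)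
    (he : ∀ k, Etale (a k).left) (hcov : ∀ y : W.left, ∃ k, y ∈ Set.range (a k).left) :
    Sieve.ofArrows R a ∈ EtFppf.J X W := by
  rw [GrothendieckTopology.mem_over_iff]
  refine Scheme.fppfTopology.superset_covering ?_ (Precoverage.generate_mem_toGrothendieck
    ((Scheme.ofArrows_mem_precoverage_iff (@Flat ⊓ @LocallyOfFinitePresentation)
      (f := fun k => (a k).left)).2 ⟨hcov, fun k => ⟨inferInstance, inferInstance⟩⟩))
  rw [Sieve.generate_le_iff]
  rintro Z f ⟨k⟩
  refine (Sieve.overEquiv_iff _ (a k).left).2 ⟨R k, Over.homMk (𝟙 _) ?_, a k, Presieve.ofArrows.mk k, ?_⟩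
  · exact (Category.id_comp _).trans (Over.w (a k)).symm
  · exact Over.OverMorphism.ext (Category.id_comp _)

variable (H : EtFppf.AbF X)

theorem ext_of_etale {W : Over X} {κ : Type (u + 1)} (R : κ → Over X) (a : ∀ k, R k ⟶ W)
    (he : ∀ k, Etale (a k).left) (hcov : ∀ y : W.left, ∃ k, y ∈ Set.range (a k).left)
    (s s' : H.obj.obj (op W)) (h : ∀ k, H.obj.map (a k).op s = H.obj.map (a k).op s') : s = s' := by
  have hH : Presieve.IsSheaf (EtFppf.J X) (H.obj ⋙ forget AddCommGrpCat.{u + 1}) :=
    (CategoryTheory.isSheaf_iff_isSheaf_of_type _ _).1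
      ((sheafCompose (EtFppf.J X) (forget AddCommGrpCat.{u + 1})).obj H).property
  refine (hH _ (mem_J_of_etale R a he hcov)).isSeparatedFor.ext fun Z g hg => ?_
  obtain ⟨_, k, _, ⟨i⟩, rfl⟩ := hg
  change H.obj.map (k ≫ a i).op s = H.obj.map (k ≫ a i).op s'
  rw [op_comp, Functor.map_comp, ConcreteCategory.comp_apply, ConcreteCategory.comp_apply, h i]

theorem glue_of_etale {W : Over X} {κ : Type (u + 1)} (R : κ → Over X) (a : ∀ k, R k ⟶ W)
    (he : ∀ k, Etale (a k).left) (hcov : ∀ y : W.left, ∃ k, y ∈ Set.range (a k).left)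
    (t : ∀ k, H.obj.obj (op (R k)))
    (h : ∀ (k l : κ) (P : Over X) (gk : P ⟶ R k) (gl : P ⟶ R l), gk ≫ a k = gl ≫ a l →
      H.obj.map gk.op (t k) = H.obj.map gl.op (t l)) :
    ∃ s : H.obj.obj (op W), ∀ k, H.obj.map (a k).op s = t k := by
  have hH : Presieve.IsSheaf (EtFppf.J X) (H.obj ⋙ forget AddCommGrpCat.{u + 1}) :=
    (CategoryTheory.isSheaf_iff_isSheaf_of_type _ _).1
      ((sheafCompose (EtFppf.J X) (forget AddCommGrpCat.{u + 1})).obj H).property
  have hfor : (Presieve.ofArrows R a).IsSheafFor (H.obj ⋙ forget _) := by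
    rw [Presieve.isSheafFor_iff_generate]; exact hH _ (mem_J_of_etale R a he hcov)
  obtain ⟨s, hs, -⟩ := (Presieve.isSheafFor_arrows_iff _ _).mp hfor t h
  exact ⟨s, hs⟩

variable [EtFppf.ACont X] (F : EtCoh.Ab X)

/-- The sheaf of sections is a sheaf under the étale sheaf. -/
noncomputable def sectUnit : F ⟶ (EtFppf.aPush X).obj (sectSheaf F) :=
  ⟨{  app := fun U => AddCommGrpCat.ofHom (AddMonoidHom.mk' (fun t => pullAt F U.unop (𝟙 _) (Category.id_comp _) t)
        (fun s t => (congrArg _ (map_add _ s t)).trans (map_add _ _ _)))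
      naturality := fun {U V} g => by
        ext t
        change (pullAt F V.unop (𝟙 _) (Category.id_comp _) (F.obj.map g t) : GSect F ((EtFppf.a X).obj V.unop)) =
          res ((EtFppf.a X).map g.unop) (pullAt F U.unop (𝟙 _) (Category.id_comp _) t)
        refine ext_germs fun Ω _ _ η ξ e he => ?_
        obtain rfl := he.unique (hasGerm_pullAt V.unop (𝟙 _) (Category.id_comp _) _ ξ)
        let ξU : FibrePts ((EtFppf.a X).obj U.unop).hom η :=
          ⟨ξ.1 ≫ ((EtFppf.a X).map g.unop).left,
            (Category.assoc _ _ _).trans ((congrArg (ξ.1 ≫ ·) (Over.w ((EtFppf.a X).map g.unop))).trans ξ.2)⟩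
        have := hasGerm_res ((EtFppf.a X).map g.unop) ξ ξU rfl
          (hasGerm_pullAt U.unop (𝟙 _) (Category.id_comp _) t ξU)
        refine Eq.mpr (congrArg (HasGerm _ _) ?_) this
        refine (gm_map F η g.unop (fibOf ξ V.unop (𝟙 _) (Category.id_comp _)) t).trans ?_
        refine congrArg (fun w => gm F η U.unop w t) (Over.OverMorphism.ext ?_)
        change (ξ.1 ≫ 𝟙 _) ≫ g.unop.left = (ξ.1 ≫ g.unop.left) ≫ 𝟙 _
        simp }⟩

variable {F}

/-- The section given by a section of the étale sheaf and a map to its domain. -/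
noncomputable abbrev valG {R : Over X} (U : X.Etale) (m : R ⟶ (EtFppf.a X).obj U) (t : EtCoh.sect F U) :
    GSect F R :=
  res m ((sectUnit F).hom.app (op U) t)

theorem hasGerm_valG {R : Over X} (U : X.Etale) (m : R ⟶ (EtFppf.a X).obj U) (t : EtCoh.sect F U)
    {Ω : Type u} [Field Ω] [IsSepClosed Ω] {η : Spec (CommRingCat.of Ω) ⟶ X} (ξ : FibrePts R.hom η) :
    HasGerm (valG U m t) ξ (gm F η U (fibOf ξ U m.left (Over.w m)) t) := by
  let ξU : FibrePts ((EtFppf.a X).obj U).hom η :=
    ⟨ξ.1 ≫ m.left, (Category.assoc _ _ _).trans ((congrArg (ξ.1 ≫ ·) (Over.w m)).trans ξ.2)⟩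
  have := hasGerm_res m ξ ξU rfl (hasGerm_pullAt U (𝟙 _) (Category.id_comp _) t ξU)
  refine Eq.mpr (congrArg (HasGerm _ _) (congrArg (fun w => gm F η U w t) (Over.OverMorphism.ext ?_))) this
  change ξ.1 ≫ m.left = (ξ.1 ≫ m.left) ≫ 𝟙 _
  simp

theorem res_valG {R R' : Over X} (p : R' ⟶ R) (U : X.Etale) (m : R ⟶ (EtFppf.a X).obj U)
    (t : EtCoh.sect F U) : res p (valG U m t) = valG U (p ≫ m) t :=
  (res_comp p m _).symm

theorem valG_map {R : Over X} {U V : X.Etale} (g : V ⟶ U) (m : R ⟶ (EtFppf.a X).obj V)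
    (t : EtCoh.sect F U) : valG V m (F.obj.map g.op t) = valG U (m ≫ (EtFppf.a X).map g) t := by
  unfold valG
  rw [res_comp]
  exact congrArg (res m) (ConcreteCategory.congr_hom ((sectUnit F).hom.naturality g.op) t)

theorem valG_add {R : Over X} {U : X.Etale} (m : R ⟶ (EtFppf.a X).obj U)
    (s t : EtCoh.sect F U) : valG U m (s + t) = valG U m s + valG U m t :=
  (congrArg (res m) (map_add _ _ _)).trans (res_add m _ _)

theorem valG_sub {R : Over X} {U : X.Etale} (m : R ⟶ (EtFppf.a X).obj U)
    (s t : EtCoh.sect F U) : valG U m (s - t) = valG U m s - valG U m t := by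
  rw [eq_sub_iff_add_eq, ← valG_add, sub_add_cancel]

variable {H} (φ : F ⟶ (EtFppf.aPush X).obj H)

/-- The value in the target given by a section and a map to its domain. -/
noncomputable abbrev valH {R : Over X} (U : X.Etale) (m : R ⟶ (EtFppf.a X).obj U) (t : EtCoh.sect F U) :
    H.obj.obj (op R) :=
  H.obj.map m.op (φ.hom.app (op U) t)

theorem map_valH {R R' : Over X} (p : R' ⟶ R) (U : X.Etale) (m : R ⟶ (EtFppf.a X).obj U)
    (t : EtCoh.sect F U) : H.obj.map p.op (valH φ U m t) = valH φ U (p ≫ m) t := by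
  unfold valH
  rw [op_comp, Functor.map_comp]
  rfl

theorem valH_map {R : Over X} {U V : X.Etale} (g : V ⟶ U) (m : R ⟶ (EtFppf.a X).obj V)
    (t : EtCoh.sect F U) : valH φ V m (F.obj.map g.op t) = valH φ U (m ≫ (EtFppf.a X).map g) t := by
  refine (congrArg (H.obj.map m.op) (ConcreteCategory.congr_hom (φ.hom.naturality g.op) t)).trans ?_
  exact map_valH φ m U ((EtFppf.a X).map g) t

theorem valH_eq_zero {R : Over X} (U : X.Etale) (m : R ⟶ (EtFppf.a X).obj U) (t : EtCoh.sect F U)
    (h : valG U m t = 0) : valH φ U m t = 0 := by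
  have key : ∀ y : R.left, ∃ (V : X.Etale) (g : V ⟶ U), F.obj.map g.op t = 0 ∧
      m.left y ∈ Set.range g.left := by
    intro y
    let ξ : FibrePts R.hom (algPoint R.left y ≫ R.hom) := ⟨algPoint R.left y, rfl⟩
    have h1 := hasGerm_valG U m t ξ
    rw [h] at h1
    have h2 := not_mem_sectSupp_of_germ_eq_zero F _ U t _ (h1.unique (HasGerm.zero ξ))
    simp only [EtShriek.sectSupp, Set.mem_setOf_eq, not_forall, not_not] at h2
    obtain ⟨V, g, ⟨v, hv⟩, h0⟩ := h2
    refine ⟨V, g, h0, v, hv.trans ?_⟩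
    change m.left (algPoint R.left y default) = m.left y
    rw [algPoint_default]
  choose V g hg hy using key
  let P : ULift.{u + 1} R.left → Over X := fun y => Over.mk (pullback.fst m.left (g y.down).left ≫ R.hom)
  refine ext_of_etale H P (fun y => Over.homMk (pullback.fst m.left (g y.down).left) : ∀ y, P y ⟶ R)
    (fun y => ?_) (fun y => ?_) _ _ fun y => ?_
  · have : Etale (g y.down).left := etale_map_left (g y.down)
    exact inferInstanceAs (Etale (pullback.fst m.left (g y.down).left))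
  · obtain ⟨v, hv⟩ := hy y
    obtain ⟨z, hz, -⟩ := Scheme.Pullback.exists_preimage_pullback (f := m.left) (g := (g y).left) y v hv.symm
    exact ⟨⟨y⟩, z, hz⟩
  · refine Eq.trans ?_ (map_zero _).symm
    refine (map_valH φ _ U m t).trans ?_
    let n : P y ⟶ (EtFppf.a X).obj (V y.down) := Over.homMk (pullback.snd m.left (g y.down).left) (by
      refine (congrArg (pullback.snd m.left (g y.down).left ≫ ·) (Over.w (g y.down).hom).symm).trans ?_
      refine (Category.assoc _ _ _).symm.trans ((congrArg (· ≫ _) pullback.condition.symm).trans ?_)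
      exact (Category.assoc _ _ _).trans (congrArg (pullback.fst m.left _ ≫ ·) (Over.w m)))
    have hn : (Over.homMk (pullback.fst m.left (g y.down).left) : P y ⟶ R) ≫ m = n ≫ (EtFppf.a X).map (g y.down) :=
      Over.OverMorphism.ext pullback.condition
    rw [hn, ← valH_map, hg]
    exact (congrArg _ (map_zero _)).trans (map_zero _)

theorem valH_eq {R : Over X} (U₁ U₂ : X.Etale) (m₁ : R ⟶ (EtFppf.a X).obj U₁)
    (m₂ : R ⟶ (EtFppf.a X).obj U₂) (t₁ : EtCoh.sect F U₁) (t₂ : EtCoh.sect F U₂)
    (h : valG U₁ m₁ t₁ = valG U₂ m₂ t₂) : valH φ U₁ m₁ t₁ = valH φ U₂ m₂ t₂ := by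
  have : Etale U₁.hom := U₁.prop
  have : Etale U₂.hom := U₂.prop
  let U : X.Etale := Scheme.Etale.mk (pullback.fst U₁.hom U₂.hom ≫ U₁.hom)
  let p₁ : U ⟶ U₁ := MorphismProperty.Over.homMk (pullback.fst U₁.hom U₂.hom) rfl
  let p₂ : U ⟶ U₂ := MorphismProperty.Over.homMk (pullback.snd U₁.hom U₂.hom) pullback.condition.symm
  let m : R ⟶ (EtFppf.a X).obj U := Over.homMk (pullback.lift m₁.left m₂.left ((Over.w m₁).trans (Over.w m₂).symm))
    ((Category.assoc _ _ _).symm.trans ((congrArg (· ≫ U₁.hom) (pullback.lift_fst _ _ _)).trans (Over.w m₁)))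
  have h₁ : m ≫ (EtFppf.a X).map p₁ = m₁ := Over.OverMorphism.ext (pullback.lift_fst _ _ _)
  have h₂ : m ≫ (EtFppf.a X).map p₂ = m₂ := Over.OverMorphism.ext (pullback.lift_snd _ _ _)
  have hz := valH_eq_zero φ U m (F.obj.map p₁.op t₁ - F.obj.map p₂.op t₂)
    (by rw [valG_sub, valG_map, valG_map, h₁, h₂, h, sub_self])
  rw [← h₁, ← h₂, ← valH_map, ← valH_map]
  exact sub_eq_zero.1 (((congrArg (H.obj.map m.op) (map_sub _ _ _)).trans (map_sub _ _ _)).symm.trans hz)

/-- Locally every section comes from the étale sheaf. -/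
theorem exists_rep {T : Over X} (σ : GSect F T) (y : T.left) :
    ∃ (R : Over X) (q : R ⟶ T) (U : X.Etale) (m : R ⟶ (EtFppf.a X).obj U) (t : EtCoh.sect F U),
      Etale q.left ∧ y ∈ Set.range q.left ∧ res q σ = valG U m t := by
  obtain ⟨V, t, b, hb, hbD⟩ := exists_local_at T.hom F σ y
  let D : Set ((EtCoh.bc T.hom).obj V).left :=
    EtShriek.sectSupp ((EtCoh.pull T.hom).obj F) _ (diffAt T.hom F σ V t)
  let O : ((EtCoh.bc T.hom).obj V).left.Opens := ⟨Dᶜ, (isClosed_sectSupp _ _ _).isOpen_compl⟩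
  have : Etale ((EtCoh.bc T.hom).obj V).hom := ((EtCoh.bc T.hom).obj V).prop
  let R : Over X := Over.mk ((O.ι ≫ ((EtCoh.bc T.hom).obj V).hom) ≫ T.hom)
  let q : R ⟶ T := Over.homMk (O.ι ≫ ((EtCoh.bc T.hom).obj V).hom)
  let m : R ⟶ (EtFppf.a X).obj V := Over.homMk (O.ι ≫ EtShriek.prV T.hom V) (by
    change (O.ι ≫ EtShriek.prV T.hom V) ≫ V.hom = (O.ι ≫ ((EtCoh.bc T.hom).obj V).hom) ≫ T.hom
    rw [Category.assoc, Category.assoc]
    exact congrArg (O.ι ≫ ·) (pullback.condition (f := V.hom) (g := T.hom)))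
  refine ⟨R, q, V, m, t, inferInstanceAs (Etale (O.ι ≫ ((EtCoh.bc T.hom).obj V).hom)), ⟨⟨b, hbD⟩, hb⟩, ?_⟩
  refine ext_germs fun Ω _ _ η ξ e he => ?_
  let ξT : FibrePts T.hom η := ⟨ξ.1 ≫ q.left, (Category.assoc _ _ _).trans ξ.2⟩
  let v := fibOf ξ V m.left (Over.w m)
  have hm : fiberPt (bcLift T.hom η ξT V v) ∉ D := by
    have : fiberPt (bcLift T.hom η ξT V v) = O.ι (ξ.1 default) := by
      refine (bcLift_fiberPt V ξT v (ξ.1 ≫ O.ι) (Category.assoc _ _ _).symm (Category.assoc _ _ _)).trans rfl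
    rw [this]
    exact (ξ.1 default).2
  obtain rfl := he.unique (hasGerm_res q ξ ξT rfl (hasGerm_of_not_mem σ V t ξT v hm))
  exact hasGerm_valG V m t ξ

/-- A value of the comparison morphism. -/
def IsValue {T : Over X} (σ : GSect F T) (h : H.obj.obj (op T)) : Prop :=
  ∀ (R : Over X) (q : R ⟶ T) (U : X.Etale) (m : R ⟶ (EtFppf.a X).obj U) (t : EtCoh.sect F U),
    res q σ = valG U m t → H.obj.map q.op h = valH φ U m t

theorem existsUnique_isValue {T : Over X} (σ : GSect F T) : ∃! h, IsValue φ σ h := by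
  choose R q U m t he hy hr using exists_rep σ
  obtain ⟨h, hh⟩ := glue_of_etale H (fun y : ULift.{u + 1} T.left => R y.down) (fun y => q y.down)
    (fun y => he y.down) (fun y => ⟨⟨y⟩, hy y⟩) (fun y => valH φ (U y.down) (m y.down) (t y.down))
    fun k l P gk gl hkl => by
      rw [map_valH, map_valH]
      refine valH_eq φ _ _ _ _ _ _ ?_
      rw [← res_valG, ← res_valG, ← hr, ← hr, ← res_comp, ← res_comp, hkl]
  refine ⟨h, fun R' q' U' m' t' h' => ?_, fun h' hh' => ?_⟩
  · refine ext_of_etale H (fun y : ULift.{u + 1} T.left => Over.mk (pullback.fst q'.left (q y.down).left ≫ R'.hom))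
      (fun y => Over.homMk (pullback.fst q'.left (q y.down).left)) (fun y => ?_) (fun z => ?_) _ _ fun y => ?_
    · have := he y.down
      exact inferInstanceAs (Etale (pullback.fst q'.left (q y.down).left))
    · obtain ⟨w, hw⟩ := hy (q'.left z)
      obtain ⟨c, hc, -⟩ := Scheme.Pullback.exists_preimage_pullback (f := q'.left)
        (g := (q (q'.left z)).left) z w hw.symm
      exact ⟨⟨q'.left z⟩, c, hc⟩
    · let p₁ : Over.mk (pullback.fst q'.left (q y.down).left ≫ R'.hom) ⟶ R' :=
        Over.homMk (pullback.fst q'.left (q y.down).left)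
      let p₂ : Over.mk (pullback.fst q'.left (q y.down).left ≫ R'.hom) ⟶ R y.down :=
        Over.homMk (pullback.snd q'.left (q y.down).left) (by
          change pullback.snd q'.left (q y.down).left ≫ (R y.down).hom = _ ≫ R'.hom
          rw [← Over.w (q y.down), ← Over.w q', ← Category.assoc, ← Category.assoc, pullback.condition])
      have hp : p₁ ≫ q' = p₂ ≫ q y.down := Over.OverMorphism.ext pullback.condition
      change H.obj.map p₁.op _ = H.obj.map p₁.op _
      rw [map_valH, ← ConcreteCategory.comp_apply, ← Functor.map_comp, ← op_comp, hp, op_comp,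
        Functor.map_comp, ConcreteCategory.comp_apply, hh y, map_valH]
      refine valH_eq φ _ _ _ _ _ _ ?_
      rw [← res_valG, ← res_valG, ← h', ← hr, ← res_comp, ← res_comp, hp]
  · exact ext_of_etale H (fun y : ULift.{u + 1} T.left => R y.down) (fun y => q y.down)
      (fun y => he y.down) (fun y => ⟨⟨y⟩, hy y⟩) _ _ fun y => (hh' _ _ _ _ _ (hr y.down)).trans (hh y).symm

/-- The comparison morphism at an object. -/
noncomputable def descFun (T : Over X) (σ : GSect F T) : H.obj.obj (op T) :=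
  (existsUnique_isValue φ σ).choose

theorem isValue_descFun {T : Over X} (σ : GSect F T) : IsValue φ σ (descFun φ T σ) :=
  (existsUnique_isValue φ σ).choose_spec.1

theorem IsValue.eq_descFun {T : Over X} {σ : GSect F T} {h : H.obj.obj (op T)} (hh : IsValue φ σ h) :
    h = descFun φ T σ :=
  (existsUnique_isValue φ σ).choose_spec.2 h hh

theorem descFun_res {T' T : Over X} (p : T' ⟶ T) (σ : GSect F T) :
    descFun φ T' (res p σ) = H.obj.map p.op (descFun φ T σ) := by
  refine (IsValue.eq_descFun φ fun R q U m t h => ?_).symm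
  rw [← ConcreteCategory.comp_apply, ← Functor.map_comp, ← op_comp]
  exact isValue_descFun φ σ R (q ≫ p) U m t ((res_comp q p σ).trans h)

theorem descFun_valG {R : Over X} (U : X.Etale) (m : R ⟶ (EtFppf.a X).obj U) (t : EtCoh.sect F U) :
    descFun φ R (valG U m t) = valH φ U m t := by
  have h := isValue_descFun φ (valG U m t) R (𝟙 R) U m t (res_id _ _)
  rwa [op_id, CategoryTheory.Functor.map_id] at h

theorem descFun_add {T : Over X} (σ τ : GSect F T) :
    descFun φ T (σ + τ) = descFun φ T σ + descFun φ T τ := by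
  choose R q U m t he hy hr using exists_rep σ
  choose R' q' U' m' t' he' hy' hr' using exists_rep τ
  let P : ULift.{u + 1} T.left → Over X := fun y =>
    Over.mk (pullback.fst (q y.down).left (q' y.down).left ≫ (R y.down).hom)
  let p₁ : ∀ y, P y ⟶ R y.down := fun y => Over.homMk (pullback.fst (q y.down).left (q' y.down).left)
  let p₂ : ∀ y, P y ⟶ R' y.down := fun y => Over.homMk (pullback.snd (q y.down).left (q' y.down).left) (by
    change pullback.snd (q y.down).left (q' y.down).left ≫ (R' y.down).hom = _ ≫ (R y.down).hom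
    rw [← Over.w (q y.down), ← Over.w (q' y.down), ← Category.assoc, ← Category.assoc, pullback.condition])
  refine ext_of_etale H P (fun y => p₁ y ≫ q y.down) (fun y => ?_) (fun z => ?_) _ _ fun y => ?_
  · have := he y.down
    have := he' y.down
    exact inferInstanceAs (Etale (pullback.fst (q y.down).left (q' y.down).left ≫ (q y.down).left))
  · obtain ⟨w, hw⟩ := hy z
    obtain ⟨w', hw'⟩ := hy' z
    obtain ⟨c, hc, -⟩ := Scheme.Pullback.exists_preimage_pullback (f := (q z).left) (g := (q' z).left) w w'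
      (hw.trans hw'.symm)
    exact ⟨⟨z⟩, c, (congrArg (q z).left hc).trans hw⟩
  · have hp : p₁ y ≫ q y.down = p₂ y ≫ q' y.down := Over.OverMorphism.ext pullback.condition
    let U₁ := U y.down
    let U₂ := U' y.down
    have : Etale U₁.hom := U₁.prop
    have : Etale U₂.hom := U₂.prop
    let W : X.Etale := Scheme.Etale.mk (pullback.fst U₁.hom U₂.hom ≫ U₁.hom)
    let r₁ : W ⟶ U₁ := MorphismProperty.Over.homMk (pullback.fst U₁.hom U₂.hom) rfl
    let r₂ : W ⟶ U₂ := MorphismProperty.Over.homMk (pullback.snd U₁.hom U₂.hom) pullback.condition.symm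
    let n : P y ⟶ (EtFppf.a X).obj W := Over.homMk
      (pullback.lift (p₁ y ≫ m y.down).left (p₂ y ≫ m' y.down).left
        ((Over.w (p₁ y ≫ m y.down)).trans (Over.w (p₂ y ≫ m' y.down)).symm))
      ((Category.assoc _ _ _).symm.trans ((congrArg (· ≫ U₁.hom) (pullback.lift_fst _ _ _)).trans
        (Over.w (p₁ y ≫ m y.down))))
    have h₁ : n ≫ (EtFppf.a X).map r₁ = p₁ y ≫ m y.down := Over.OverMorphism.ext (pullback.lift_fst _ _ _)
    have h₂ : n ≫ (EtFppf.a X).map r₂ = p₂ y ≫ m' y.down := Over.OverMorphism.ext (pullback.lift_snd _ _ _)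
    rw [map_add, ← descFun_res, ← descFun_res, ← descFun_res, res_add]
    have e₁ : res (p₁ y ≫ q y.down) σ = valG W n (F.obj.map r₁.op (t y.down)) := by
      rw [valG_map, h₁, res_comp, hr, res_valG]
    have e₂ : res (p₁ y ≫ q y.down) τ = valG W n (F.obj.map r₂.op (t' y.down)) := by
      rw [valG_map, h₂, hp, res_comp, hr', res_valG]
    rw [e₁, e₂, ← valG_add, descFun_valG, descFun_valG, descFun_valG]
    exact (congrArg (H.obj.map n.op) (map_add _ _ _)).trans (map_add _ _ _)

/-- The morphism out of the sheaf of sections. -/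
noncomputable def descHom : sectSheaf F ⟶ H :=
  ⟨{  app := fun T => AddCommGrpCat.ofHom (AddMonoidHom.mk' (descFun φ T.unop) (descFun_add φ))
      naturality := fun {T T'} p => by
        ext σ
        exact descFun_res φ p.unop σ }⟩

theorem sectUnit_descHom : sectUnit F ≫ (EtFppf.aPush X).map (descHom φ) = φ := by
  refine Sheaf.hom_ext (NatTrans.ext (funext fun U => ?_))
  ext t
  change descFun φ ((EtFppf.a X).obj U.unop) ((sectUnit F).hom.app U t) = φ.hom.app U t
  have h := descFun_valG φ U.unop (𝟙 ((EtFppf.a X).obj U.unop)) t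
  unfold valG at h
  rw [res_id] at h
  refine h.trans ?_
  unfold valH
  rw [op_id, CategoryTheory.Functor.map_id]
  rfl

/-- The inverse image on the big fppf site is the sheaf of sections of the inverse images. -/
noncomputable def aPullIso (F : EtCoh.Ab X) : (EtFppf.aPull X).obj F ≅ sectSheaf F where
  hom := ((EtFppf.aAdj X).homEquiv _ _).symm (sectUnit F)
  inv := descHom ((EtFppf.aAdj X).unit.app F)
  hom_inv_id := by
    apply ((EtFppf.aAdj X).homEquiv _ _).injective
    rw [Adjunction.homEquiv_naturality_right, Equiv.apply_symm_apply, sectUnit_descHom,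
      Adjunction.homEquiv_id]
  inv_hom_id := by
    let φ := (EtFppf.aAdj X).unit.app F
    let θ := ((EtFppf.aAdj X).homEquiv _ _).symm (sectUnit F)
    refine Sheaf.hom_ext (NatTrans.ext (funext fun T => ?_))
    ext σ
    choose R q U m t he hy hr using exists_rep (F := F) (T := T.unop) σ
    refine ext_of_etale (sectSheaf F) (fun y : ULift.{u + 1} T.unop.left => R y.down) (fun y => q y.down)
      (fun y => he y.down) (fun y => ⟨⟨y⟩, hy y⟩) _ _ fun y => ?_
    change (sectSheaf F).obj.map (q y.down).op (θ.hom.app T (descFun φ T.unop σ)) = res (q y.down) σ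
    refine (ConcreteCategory.congr_hom (θ.hom.naturality (q y.down).op) _).symm.trans ?_
    refine (congrArg (θ.hom.app _) (isValue_descFun φ σ _ _ _ _ _ (hr y.down))).trans ?_
    refine (ConcreteCategory.congr_hom (θ.hom.naturality (m y.down).op) _).trans ?_
    rw [hr y.down]
    refine congrArg (res (m y.down)) ?_
    have h := ((EtFppf.aAdj X).homEquiv _ _).apply_symm_apply (sectUnit F)
    rw [Adjunction.homEquiv_unit] at h
    exact ConcreteCategory.congr_hom (congrArg (fun k => k.hom.app (op (U y.down))) h) (t y.down)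

end Groth.Agent.Et18.Fppf
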